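import Groth.Agent.RefOne.Divisor
import Groth.Agent.AmpleLib.Tensor
import Groth.Agent.HilbLib.Positive
import Groth.Agent.DevLib.Piece
import Groth.Agent.FittLib.Minor
import Groth.Agent.FittSheafLib.Basic

/-!
# A line bundle inside another is the latter times an ideal
-/

set_option autoImplicit false
set_option backward.isDefEq.respectTransparency false
set_option backward.isDefEq.respectTransparency.types false
set_option linter.style.haveILetI false
set_option maxHeartbeats 1000000

universe u

open CategoryTheory CategoryTheory.Limits AlgebraicGeometry TopologicalSpace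
open scoped TensorProduct
open Groth.Agent.PullbackMod Groth.Agent.DCohLib Groth.Agent.ParaFLib

noncomputable section

namespace Groth.Agent.SubIdealLib

variable {X : Scheme.{u}}

/-- A mono into an invertible module whose stalk images are `J` times the stalks identifies the source
with the product by `J`. -/
theorem nonempty_iso_tensor_idealMod {L M : X.Modules} (hM : PicF.IsInvertible M) (φ : L ⟶ M) [Mono φ]
    (J : X.IdealSheafData)
    (h : ∀ (x : X) (e : M.presheaf.stalk x), (Function.Bijective fun r : X.presheaf.stalk x => r • e) →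
      ∀ r : X.presheaf.stalk x, (∃ l, stalkLin φ x l = r • e) ↔ r ∈ IntMult.stalkIdeal J x) :
    Nonempty (CohB1.tensorMod M (ClSub.idealMod J) ≅ L) := by
  let ψ : CohB1.tensorMod M (ClSub.idealMod J) ⟶ M :=
    ((DCoh.tensorBi (X := X)).obj M).map (ClSub.idealModι J) ≫ (AmpleLib.unitR M).hom
  -- the stalks of `ψ`
  have key : ∀ x, Function.Injective (stalkLin ψ x) ∧
      ∀ v, (∃ z, stalkLin ψ x z = v) ↔ ∃ l, stalkLin φ x l = v := by
    intro x
    obtain ⟨e, he⟩ := ParaFLib.exists_stalk_gen hM x
    obtain ⟨hι, hrange⟩ := RefOne.idealModι_stalk J x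
    let T := stalkTensor x M (Coh.structureModule X) (e ⊗ₜ RefOne.oEquiv x 1)
    have hT : Function.Bijective fun r : X.presheaf.stalk x => r • T :=
      AmpleLib.bijective_stalkTensor he (by
        have := (RefOne.oEquiv x).bijective
        convert this using 1
        funext r
        rw [← map_smul, smul_eq_mul, mul_one])
    let e' := stalkLin (AmpleLib.unitR M).hom x T
    have he' : Function.Bijective fun r : X.presheaf.stalk x => r • e' := by
      have := (HilbLib.stalkLin_bijective_of_iso (AmpleLib.unitR M) x).comp hT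
      convert this using 1
      funext r
      exact (map_smul _ r T).symm
    have hval : ∀ (m : (ClSub.idealMod J).presheaf.stalk x) (r : X.presheaf.stalk x),
        stalkLin (ClSub.idealModι J) x m = RefOne.oEquiv x r →
        stalkLin ψ x (stalkTensor x M (ClSub.idealMod J) (e ⊗ₜ m)) = r • e' := by
      intro m r hm
      have hr : RefOne.oEquiv x r = r • RefOne.oEquiv x 1 := by rw [← map_smul, smul_eq_mul, mul_one]
      show stalkLin (_ ≫ _) x _ = _
      have hn := stalkTensor_natural_right (x := x) (M := M) (ClSub.idealModι J) (e ⊗ₜ[X.presheaf.stalk x] m)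
      rw [LinearMap.lTensor_tmul, hm, hr, TensorProduct.tmul_smul, map_smul] at hn
      rw [stalkLin_comp]
      exact (congrArg (stalkLin (AmpleLib.unitR M).hom x) hn).trans (map_smul _ r T)
    have hrep : ∀ z, ∃ m, z = stalkTensor x M (ClSub.idealMod J) (e ⊗ₜ m) := by
      intro z
      obtain ⟨t, rfl⟩ := (stalkTensor x M (ClSub.idealMod J)).surjective z
      induction t using TensorProduct.induction_on with
      | zero => exact ⟨0, by rw [TensorProduct.tmul_zero]⟩
      | tmul a b =>
        obtain ⟨s, rfl⟩ := he.2 a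
        exact ⟨s • b, by rw [TensorProduct.smul_tmul]⟩
      | add a b ha hb =>
        obtain ⟨m, hm⟩ := ha
        obtain ⟨n, hn⟩ := hb
        exact ⟨m + n, by rw [TensorProduct.tmul_add, map_add, map_add, hm, hn]⟩
    refine ⟨(injective_iff_map_eq_zero _).2 fun z hz => ?_, fun v => ⟨?_, ?_⟩⟩
    · obtain ⟨m, rfl⟩ := hrep z
      obtain ⟨r, hr⟩ := (RefOne.oEquiv x).surjective (stalkLin (ClSub.idealModι J) x m)
      rw [hval m r hr.symm] at hz
      have hr0 : r = 0 := he'.1 (hz.trans (zero_smul _ e').symm)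
      have hm0 : m = 0 := hι (by rw [← hr, hr0, map_zero, map_zero])
      rw [hm0, TensorProduct.tmul_zero, map_zero]
    · rintro ⟨z, rfl⟩
      obtain ⟨m, rfl⟩ := hrep z
      obtain ⟨r, hr⟩ := (RefOne.oEquiv x).surjective (stalkLin (ClSub.idealModι J) x m)
      rw [hval m r hr.symm]
      exact (h x e' he' r).2 ((hrange r).1 ⟨m, hr.symm⟩)
    · rintro ⟨l, rfl⟩
      obtain ⟨r, hr⟩ := he'.2 (stalkLin φ x l)
      obtain ⟨m, hm⟩ := (hrange r).2 ((h x e' he' r).1 ⟨l, hr.symm⟩)
      exact ⟨_, (hval m r hm).trans hr⟩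
  have hz : ψ ≫ cokernel.π φ = 0 := by
    refine hom_ext_stalk fun x => LinearMap.ext fun z => ?_
    obtain ⟨l, hl⟩ := ((key x).2 _).1 ⟨z, rfl⟩
    rw [stalkLin_comp, LinearMap.comp_apply, ← hl, ← LinearMap.comp_apply, ← stalkLin_comp, cokernel.condition]
    rw [(eq_zero_iff_stalk _).1 rfl x, (eq_zero_iff_stalk _).1 rfl x, LinearMap.zero_apply, LinearMap.zero_apply]
  let g := Abelian.monoLift φ ψ hz
  have hg : g ≫ φ = ψ := Abelian.monoLift_comp φ ψ hz
  haveI : IsIso g := (isIso_iff_stalk g).2 fun x => by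
    have hφ := (mono_iff_stalk φ).1 inferInstance x
    have hc : ∀ z, stalkLin φ x (stalkLin g x z) = stalkLin ψ x z := fun z => by
      rw [← LinearMap.comp_apply, ← stalkLin_comp, hg]
    refine ⟨fun a b hab => (key x).1 (by rw [← hc, ← hc, hab]), fun l => ?_⟩
    obtain ⟨z, hz⟩ := ((key x).2 _).2 ⟨l, rfl⟩
    exact ⟨z, hφ (by rw [hc, hz])⟩
  exact ⟨asIso g⟩

/-- The zeroth Fitting ideal of a cyclic module is the annihilator of its generator. -/
theorem fitt_zero_eq {R : Type u} [CommRing R] {N : Type u} [AddCommGroup N] [Module R N] (n : N)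
    (hn : Submodule.span R {n} = ⊤) (r : R) : r ∈ Fitt.ideal R N 0 ↔ r • n = 0 := by
  haveI : Module.Finite R N := ⟨⟨{n}, by rw [Finset.coe_singleton]; exact hn⟩⟩
  rw [FittLib.ideal_eq_D (fun _ : Fin 1 => n) (by rw [Set.range_const]; exact hn) 0]
  constructor
  · intro hr
    refine Submodule.span_induction (fun d hd => ?_) (zero_smul _ _) (fun a b _ _ ha hb => ?_)
      (fun a b _ hb => ?_) hr
    · obtain ⟨a, T, hT, ha, rfl⟩ := hd
      obtain ⟨i, hi⟩ : T.Nonempty := Finset.card_pos.1 (by omega)
      have := FittLib.mem_rel.1 (ha i hi)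
      rw [Fin.sum_univ_one, Subsingleton.elim i 0] at this
      rw [Matrix.det_fin_one]
      exact this
    · rw [add_smul, ha, hb, add_zero]
    · rw [smul_eq_mul, mul_smul, hb, smul_zero]
  · intro hr
    refine Ideal.subset_span ⟨!![r], Finset.univ, by simp, fun i _ => FittLib.mem_rel.2 ?_, by simp [Matrix.det_fin_one]⟩
    rw [Fin.sum_univ_one, Subsingleton.elim i 0]
    exact hr

/-- A line bundle inside another is the latter times the Fitting ideal of the quotient. -/
theorem nonempty_iso_tensor_fitting {L M Q : X.Modules} [Coh.IsQCoh Q] (hQ : CohB1.IsFT Q)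
    (hM : PicF.IsInvertible M) (φ : L ⟶ M) [Mono φ] (ε : cokernel φ ≅ Q) :
    Nonempty (CohB1.tensorMod M (ClSub.idealMod (Fitt.sheafIdeal Q 0)) ≅ L) := by
  refine nonempty_iso_tensor_idealMod hM φ _ fun x e he r => ?_
  obtain ⟨W, hW, hx, -⟩ := exists_isAffineOpen_mem_and_subset (U := (⊤ : X.Opens)) (x := x) trivial
  rw [IdealStalkLib.stalkIdeal_eq _ ⟨W, hW⟩ x hx, FittSheafLib.sheafIdeal_ideal Q hQ 0 ⟨W, hW⟩,
    FittSheafLib.stalk_fitt Q hQ 0 hW x hx]
  let π := stalkLin (cokernel.π φ ≫ ε.hom) x
  have hsur : Function.Surjective π := (epi_iff_stalk _).1 inferInstance x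
  have hker : ∀ v, π v = 0 ↔ ∃ l, stalkLin φ x l = v := fun v => by
    show stalkLin (cokernel.π φ ≫ ε.hom) x v = 0 ↔ _
    rw [stalkLin_comp, LinearMap.comp_apply, map_eq_zero_iff _ (HilbLib.stalkLin_bijective_of_iso ε x).1]
    exact DevLib.coker_exact φ x v
  have hspan : Submodule.span (X.presheaf.stalk x) {π e} = ⊤ := by
    refine eq_top_iff.2 fun v _ => ?_
    obtain ⟨w, rfl⟩ := hsur v
    obtain ⟨a, rfl⟩ := he.2 w
    exact Submodule.mem_span_singleton.2 ⟨a, (map_smul π a e).symm⟩
  rw [fitt_zero_eq (π e) hspan, ← map_smul, hker]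

end Groth.Agent.SubIdealLib
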